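import Cfsg.Agent.H945.Wk.Co3Syl
import Cfsg.Agent.H143.RowCo3
import Cfsg.Agent.H287.Blk.CoThree
import Cfsg.Agent.CpAutCo3.Main
import Cfsg.Agent.H970.Sep.Co3Seven
import Cfsg.Agent.BpSpor.CoThreeFive
import Cfsg.Agent.CoThreeStd.InvTwo

/-!
# S4095 at the prime 2: the row `Co₃` (helper945)

* `core_three`, `core_five` : `O_2(C(x)) = 1` for the elements of order 3 and 5;
* `row`.
-/

set_option autoImplicit false

namespace Cfsg.Agent.H945.Wk.Co3

open Subgroup Cfsg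
open Cfsg.Agent.H509.Weak
open Cfsg.Agent.SporRec.Co3.Chain (G3 isCo3_G3)
open Cfsg.Agent.SporRec.Co3.Ident (Z)
open Cfsg.Agent.SporRec.Co3.Fusion (tC)
open Cfsg.Agent.SporRec.TwoSp6.Sp (S)
open Cfsg.Agent.SporRec.TwoSp6.CInvol (NS)
open Cfsg.Agent.CpAutCo3.TwoA Cfsg.Agent.CpAutCo3.EGrp

universe u

instance finG3 : Finite G3 := H143.Co3Inv.finG3

theorem card_G3 : Nat.card G3 = 2 ^ 10 * 3 ^ 7 * 5 ^ 3 * 7 * 11 * 23 := by rw [isCo3_G3.2]; norm_num

theorem nine {x : Spor.M12} (hx : orderOf x = 2) : ¬ 9 ∣ Nat.card (centralizer ({x} : Set Spor.M12)) := by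
  have h2 : x * x = 1 := by
    have := pow_orderOf_eq_one x
    rwa [hx, pow_two] at this
  have h1 : x ≠ 1 := by
    rintro rfl
    rw [orderOf_one] at hx
    omega
  have hc : ∀ c y : Spor.M12, Nat.card ↥(centralizer ({c⁻¹ * y * c} : Set Spor.M12)) =
      Nat.card ↥(centralizer ({y} : Set Spor.M12)) := by
    intro c y
    have h := Nat.card_congr (centEquiv (MulAut.conj c⁻¹) y).toEquiv
    rw [MulAut.conj_apply, inv_inv] at h
    exact h.symm
  rcases CoThreeStd.InvTwo.inv2.cases x h2 h1 with ⟨c, h⟩ | ⟨c, h⟩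
  · rw [← h, hc, CoThreeStd.MTwelve.card_cent_y]
    norm_num
  · rw [← h, hc, CoThreeStd.MTwelve.card_cent_v]
    norm_num

/-- the involutions of class 2B -/
structure BB (z : G3) : Prop where
  sq : z * z = 1
  ex : ∃ f : ↥(centralizer ({z} : Set G3)) →* Spor.M12, ∀ c, f c = 1 → c = 1 ∨ (c : G3) = z

theorem exists_BB : ∃ w : G3, w ≠ 1 ∧ BB w ∧ ∀ t : G3, orderOf t = 2 → ∃ g : G3, g⁻¹ * t * g = Z ∨ g⁻¹ * t * g = w := by
  obtain ⟨w, hw2, hw1, hwc, f, hf⟩ := CpAutCoThreeFive.exists_w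
  refine ⟨w, hw1, ⟨hw2, f, hf⟩, fun t ht => ?_⟩
  have ht2 : t * t = 1 := by
    have := pow_orderOf_eq_one t
    rwa [ht, pow_two] at this
  have ht1 : t ≠ 1 := by
    rintro rfl
    rw [orderOf_one] at ht
    omega
  rcases SigZero.CoThree.classes hw2 hw1 hwc ht2 ht1 with ⟨g, hg⟩ | ⟨g, hg⟩
  · exact ⟨g, Or.inl (by rw [← hg]; group)⟩
  · exact ⟨g, Or.inr (by rw [← hg]; group)⟩

theorem BB.card_dvd {z : G3} (h : BB z) : Nat.card ↥(centralizer ({z} : Set G3)) ∣ 190080 := by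
  obtain ⟨h1, f, hf⟩ := h
  have h2 : Nat.card ↥f.ker ∣ 2 := by
    have h4 : f.ker ≤ zpowers (⟨z, mem_centralizer_singleton_iff.2 rfl⟩ : ↥(centralizer ({z} : Set G3))) := by
      intro g hg
      rcases hf g hg with h | h
      · rw [h]
        exact one_mem _
      · have : g = ⟨z, mem_centralizer_singleton_iff.2 rfl⟩ := Subtype.ext h
        rw [this]
        exact mem_zpowers _
    refine (Subgroup.card_dvd_of_le h4).trans ?_
    rw [Nat.card_zpowers]
    apply orderOf_dvd_of_pow_eq_one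
    apply Subtype.ext
    change z ^ 2 = 1
    rw [pow_two, h1]
  have h3 : Nat.card ↥f.range ∣ 95040 := by
    have := card_subgroup_dvd_card f.range
    rwa [show Nat.card Spor.M12 = 95040 from CoThreeStd.MTwelve.card_H] at this
  rw [← f.ker.card_mul_index, index_ker]
  exact (mul_dvd_mul h2 h3).trans (by norm_num)

/-- a 3-subgroup commuting with `z` and with another 2-element has order at most three -/
theorem BB.not_nine {z : G3} (h : BB z) {v : G3} {n : ℕ} (hv2 : v ^ 2 ^ n = 1) (hvz : v * z = z * v) (hv1 : v ≠ 1)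
    (hv : v ≠ z) {R : Subgroup G3} (hR : IsPGroup 3 ↥R) (hRz : R ≤ centralizer ({z} : Set G3))
    (hRv : R ≤ centralizer ({v} : Set G3)) : ¬ 9 ∣ Nat.card ↥R := by
  have h3 : Fact (Nat.Prime 3) := ⟨Nat.prime_three⟩
  obtain ⟨h1, f, hf⟩ := h
  have hz1 : z ∈ centralizer ({z} : Set G3) := mem_cent.2 rfl
  set v' : ↥(centralizer ({z} : Set G3)) := ⟨v, mem_cent.2 hvz⟩ with hv'
  have hfv : f v' ≠ 1 := by
    intro h
    rcases hf v' h with h2 | h2
    · exact hv1 (congrArg Subtype.val h2)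
    · exact hv h2
  have hfo : ∃ j, orderOf (f v') = 2 ^ (j + 1) := by
    have h2 : (f v') ^ 2 ^ n = 1 := by
      rw [← map_pow]
      have : v' ^ 2 ^ n = 1 := Subtype.ext hv2
      rw [this, map_one]
    obtain ⟨j, -, hj⟩ := (Nat.dvd_prime_pow Nat.prime_two).1 (orderOf_dvd_of_pow_eq_one h2)
    cases j with
    | zero => exact absurd (orderOf_eq_one_iff.1 (by rw [hj, pow_zero])) hfv
    | succ j => exact ⟨j, hj⟩
  obtain ⟨j, hj⟩ := hfo
  have hu : orderOf ((f v') ^ 2 ^ j) = 2 := by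
    rw [orderOf_pow_of_dvd (by positivity) (by rw [hj]; exact pow_dvd_pow 2 (by omega)), hj, pow_succ,
      Nat.mul_div_cancel_left _ (by positivity)]
  intro h9
  apply nine hu
  let g : ↥R →* Spor.M12 := f.comp (inclusion hRz)
  have hg : Function.Injective g := by
    rw [← MonoidHom.ker_eq_bot_iff, eq_bot_iff]
    intro r hr
    rw [mem_bot]
    rcases hf _ (show f (inclusion hRz r) = 1 from hr) with h2 | h2
    · apply Subtype.ext
      exact congrArg (fun c : ↥(centralizer ({z} : Set G3)) => (c : G3)) h2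
    · obtain ⟨k, hk⟩ := hR r
      have h4 : (r : G3) = z := h2
      have h5 : z ^ 3 ^ k = 1 := by
        rw [← h4]
        exact congrArg Subtype.val hk
      have h6 : orderOf z ∣ 3 ^ k := orderOf_dvd_of_pow_eq_one h5
      have h7 : orderOf z ∣ 2 := orderOf_dvd_of_pow_eq_one (by rw [pow_two, h1])
      have h8 : orderOf z = 1 :=
        Nat.eq_one_of_dvd_coprimes (Nat.Coprime.pow_left k (by norm_num : Nat.Coprime 3 2)) h6 h7
      have h9 : z = 1 := orderOf_eq_one_iff.1 h8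
      apply Subtype.ext
      rw [h4, h9]
      rfl
  have hle : g.range ≤ centralizer ({(f v') ^ 2 ^ j} : Set Spor.M12) := by
    rintro _ ⟨r, rfl⟩
    rw [mem_cent]
    have h2 : Commute (g r) (f v') := by
      change f (inclusion hRz r) * f v' = f v' * f (inclusion hRz r)
      rw [← map_mul, ← map_mul]
      congr 1
      exact Subtype.ext (mem_cent.1 (hRv r.2))
    exact (h2.pow_right _).eq
  refine (h9.trans (dvd_of_eq ?_)).trans (card_dvd_of_le hle)
  exact Nat.card_congr (MonoidHom.ofInjective hg).toEquiv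

theorem not_sixty_four {x : G3} (hx : orderOf x = 3) : ¬ 64 ∣ Nat.card ↥(centralizer ({x} : Set G3)) :=
  BpSpor.CoThree.not_sixty_four hx

theorem card_cent_conj (g x : G3) : Nat.card ↥(centralizer ({g * x * g⁻¹} : Set G3)) =
    Nat.card ↥(centralizer ({x} : Set G3)) := (Nat.card_congr (centEquiv (MulAut.conj g) x).toEquiv).symm

theorem orderOf_conj (g x : G3) : orderOf (g * x * g⁻¹) = orderOf x := MulEquiv.orderOf_eq (MulAut.conj g) x

/-- `O_2(C(x)) ≠ 1`: after conjugation the central involution is `Z` or `w` -/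
theorem exists_V' {x w : G3} (h : pCore 2 ↥(centralizer ({x} : Set G3)) ≠ ⊥)
    (hcl : ∀ t : G3, orderOf t = 2 → ∃ g : G3, g⁻¹ * t * g = Z ∨ g⁻¹ * t * g = w) :
    ∃ y : G3, (∃ g : G3, y = g * x * g⁻¹) ∧ ∃ z : G3, (z = Z ∨ z = w) ∧ ∃ V : Subgroup G3, V ≠ ⊥ ∧ IsPGroup 2 ↥V ∧
      V ≤ centralizer ({y} : Set G3) ∧ (∀ c ∈ centralizer ({y} : Set G3), ∀ v ∈ V, c * v * c⁻¹ ∈ V) ∧
      z ∈ V ∧ ∀ v ∈ V, v * z = z * v := by
  obtain ⟨V, hV1, hV2, hV3, hV4, z, hzV, hz2, hzc⟩ := exists_V h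
  obtain ⟨g, hg⟩ := hcl z hz2
  have hc : ∀ a b : G3, g⁻¹ * (a * b) * g = (g⁻¹ * a * g) * (g⁻¹ * b * g) := fun a b => by group
  refine ⟨g⁻¹ * x * g, ⟨g⁻¹, by group⟩, g⁻¹ * z * g, hg, V.map (MulAut.conj g⁻¹).toMonoidHom, ?_, hV2.map _, ?_, ?_, ?_, ?_⟩
  · rw [Ne, map_eq_bot_iff_of_injective _ (MulAut.conj g⁻¹).injective]
    exact hV1
  · rintro _ ⟨v, hv, rfl⟩
    have h1 := mem_cent.1 (hV3 hv)
    rw [mem_cent]
    change g⁻¹ * v * g⁻¹⁻¹ * (g⁻¹ * x * g) = g⁻¹ * x * g * (g⁻¹ * v * g⁻¹⁻¹)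
    rw [inv_inv, ← hc, ← hc, h1]
  · rintro c hc' _ ⟨v, hv, rfl⟩
    have h1 : g * c * g⁻¹ ∈ centralizer ({x} : Set G3) := by
      have h2 := mem_cent.1 hc'
      rw [mem_cent]
      calc g * c * g⁻¹ * x = g * (c * (g⁻¹ * x * g)) * g⁻¹ := by group
        _ = x * (g * c * g⁻¹) := by rw [h2]; group
    refine ⟨_, hV4 _ h1 v hv, ?_⟩
    change g⁻¹ * (g * c * g⁻¹ * v * (g * c * g⁻¹)⁻¹) * g⁻¹⁻¹ = c * (g⁻¹ * v * g⁻¹⁻¹) * c⁻¹
    group
  · exact ⟨z, hzV, by change g⁻¹ * z * g⁻¹⁻¹ = _; rw [inv_inv]⟩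
  · rintro _ ⟨v, hv, rfl⟩
    change g⁻¹ * v * g⁻¹⁻¹ * (g⁻¹ * z * g) = g⁻¹ * z * g * (g⁻¹ * v * g⁻¹⁻¹)
    rw [inv_inv, ← hc, ← hc, hzc v hv]

/-- a large abelian 3-subgroup makes the 3-subgroups abelian -/
theorem comm_of_abelian {H : Type*} [Group H] [Finite H] (h : ¬ 3 ^ 5 ∣ Nat.card H) {A T : Subgroup H}
    (hA : IsPGroup 3 ↥A) (hc : 81 ≤ Nat.card ↥A) (hAc : ∀ a ∈ A, ∀ b ∈ A, a * b = b * a) (hT : IsPGroup 3 ↥T) :
    ∀ a ∈ T, ∀ b ∈ T, a * b = b * a := by
  have h3 : Fact (Nat.Prime 3) := ⟨Nat.prime_three⟩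
  obtain ⟨P, hP⟩ := hA.exists_le_sylow
  obtain ⟨Q, hQ⟩ := hT.exists_le_sylow
  obtain ⟨k, hk⟩ := P.isPGroup'.exists_card_eq
  have hk5 : k < 5 := by
    by_contra hcon
    push Not at hcon
    exact h ((pow_dvd_pow 3 hcon).trans (by rw [← hk]; exact card_subgroup_dvd_card _))
  have hAP : A = P := by
    refine Subgroup.eq_of_le_of_card_ge hP ?_
    rw [hk]
    exact (Nat.pow_le_pow_right (by norm_num) (Nat.le_of_lt_succ hk5)).trans hc
  obtain ⟨g, hg⟩ := MulAction.exists_smul_eq H P Q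
  intro a ha b hb
  have key : ∀ x ∈ T, ∃ y ∈ A, x = g * y * g⁻¹ := by
    intro x hx
    have h1 : x ∈ (Q : Subgroup H) := hQ hx
    rw [← hg] at h1
    obtain ⟨y, hy, h2⟩ := h1
    refine ⟨y, ?_, h2.symm⟩
    rw [hAP]
    exact hy
  obtain ⟨x, hx, rfl⟩ := key a ha
  obtain ⟨y, hy, rfl⟩ := key b hb
  calc g * x * g⁻¹ * (g * y * g⁻¹) = g * (x * y) * g⁻¹ := by group
    _ = g * y * g⁻¹ * (g * x * g⁻¹) := by rw [hAc x hx y hy]; group

/-- **no abelian 3-subgroup of order 81 in `C(Z)`** -/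
theorem no_abelian {A : Subgroup G3} (hA : IsPGroup 3 ↥A) (hc : 81 ≤ Nat.card ↥A)
    (hAc : ∀ a ∈ A, ∀ b ∈ A, a * b = b * a) (hAZ : A ≤ centralizer ({Z} : Set G3)) : False := by
  obtain ⟨π, N⟩ := KFacts.Co3D4.exists_NS_G3
  obtain ⟨E0, E, hE0, -, -, -, -, h1, h2, h3, hZ, hd⟩ := exists_E
  have hτE : ∀ y ∈ E0, tau * y * tau⁻¹ ∈ E0 := by
    intro y hy
    obtain ⟨a, b, c, rfl⟩ := hd y hy
    have k1 : tau * (e1 ^ a * e2 ^ b * e3 ^ c) * tau⁻¹ =
        (tau * e1 * tau⁻¹) ^ a * (tau * e2 * tau⁻¹) ^ b * (tau * e3 * tau⁻¹) ^ c := by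
      rw [conj_zpow, conj_zpow, conj_zpow]
      group
    rw [k1, mul_inv_eq_iff_eq_mul.2 t1, mul_inv_eq_iff_eq_mul.2 t2, mul_inv_eq_iff_eq_mul.2 t3]
    exact E0.mul_mem (E0.mul_mem (E0.zpow_mem h2 a) (E0.zpow_mem h3 b)) (E0.zpow_mem h1 c)
  have he : e2 ≠ e1 := fun h => e2_not 1 (by rw [zpow_one]; exact h)
  have hτ : tau ∉ E0 := by
    intro h
    have k1 : tau * e1 = e1 * tau := hE0.comm _ h _ h1
    rw [t1] at k1
    exact he (mul_right_cancel k1)
  obtain ⟨T, hT, hET, hcT, hTe⟩ := tau_ext hE0 tau_cube hτE hτ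
  have hTC : T ≤ centralizer ({Z} : Set G3) := by
    intro y hy
    rw [mem_cent]
    obtain ⟨a, ha, h | h | h⟩ := hTe y hy
    · rw [h, hZ a ha]
    · rw [h]
      exact ((Commute.mul_right (show Commute Z a from hZ a ha) (show Commute Z tau from Zct)).eq).symm
    · rw [h]
      exact ((Commute.mul_right (show Commute Z a from hZ a ha)
        (Commute.mul_right (show Commute Z tau from Zct) (show Commute Z tau from Zct))).eq).symm
  have hτT : tau ∈ T := by
    have hne : ∃ y ∈ T, y ∉ E0 := by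
      by_contra hcon
      push Not at hcon
      have h4 : Nat.card ↥T ≤ Nat.card ↥E0 := Subgroup.card_le_of_le hcon
      have h5 : 0 < Nat.card ↥E0 := Nat.card_pos
      omega
    obtain ⟨y, hy, hyE⟩ := hne
    obtain ⟨a, ha, h | h | h⟩ := hTe y hy
    · exact absurd (h ▸ ha) hyE
    · have h4 : tau = a⁻¹ * y := by rw [h]; group
      rw [h4]
      exact mul_mem (inv_mem (hET ha)) hy
    · have h4 : tau * tau = a⁻¹ * y := by rw [h]; group
      have h5 : tau * tau ∈ T := by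
        rw [h4]
        exact mul_mem (inv_mem (hET ha)) hy
      have h6 : tau = (tau * tau) * (tau * tau) := by
        have h7 := tau_cube
        rw [pow_succ, pow_two] at h7
        rw [← mul_assoc, h7, one_mul]
      rw [h6]
      exact mul_mem h5 h5
  have hC : ¬ 3 ^ 5 ∣ Nat.card ↥(centralizer ({Z} : Set G3)) := by
    intro h
    have := h.trans (card_cent N)
    revert this
    norm_num
  have key := comm_of_abelian (H := ↥(centralizer ({Z} : Set G3))) hC (A := A.subgroupOf _) (T := T.subgroupOf _)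
    (hA.of_equiv (Subgroup.subgroupOfEquivOfLe hAZ).symm)
    (by rw [Nat.card_congr (Subgroup.subgroupOfEquivOfLe hAZ).toEquiv]; exact hc)
    (fun a ha b hb => Subtype.ext (hAc a ha b hb)) (hT.of_equiv (Subgroup.subgroupOfEquivOfLe hTC).symm)
  have h4 := congrArg Subtype.val (key ⟨tau, hTC hτT⟩ hτT ⟨e1, hTC (hET h1)⟩ (hET h1))
  have h5 : tau * e1 = e1 * tau := h4
  rw [t1] at h5
  exact he (mul_right_cancel h5)

/-- **elements of order three** -/
theorem core_three {x : G3} (hx : orderOf x = 3) : pCore 2 ↥(centralizer ({x} : Set G3)) = ⊥ := by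
  have h3 : Fact (Nat.Prime 3) := ⟨Nat.prime_three⟩
  obtain ⟨w, hw1, hBB, hcl⟩ := exists_BB
  by_contra hne
  obtain ⟨y, ⟨g, hy⟩, z, hz, V, hV1, hV2, hV3, hV4, hzV, hzc⟩ := exists_V' hne hcl
  have hyo : orderOf y = 3 := by rw [hy, orderOf_conj, hx]
  have hy3 : y ^ 3 = 1 := by rw [← hyo, pow_orderOf_eq_one]
  rcases hz with rfl | rfl
  · -- class 2A
    obtain ⟨E0, E, hE0, hE, hle, h27, h243, h1, h2, h3', hZ, hd⟩ := exists_E
    obtain ⟨g', hg'⟩ := conj_E0 hE0 h27 h1 h2 h3' hZ hd hy3 (mem_cent.1 (hV3 hzV)).symm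
    -- replace `y` by its conjugate
    have hne' : pCore 2 ↥(centralizer ({g' * y * g'⁻¹} : Set G3)) ≠ ⊥ := by
      intro h
      apply hne
      have h4 := core_conj h
      rw [hy] at h4
      exact core_conj h4
    obtain ⟨V', k1, k2, k3, k4, -⟩ := exists_V hne'
    have hEC : E ≤ centralizer ({g' * y * g'⁻¹} : Set G3) := by
      intro e he
      rw [mem_cent]
      exact hE.comm e he _ (hle hg')
    obtain ⟨E1, hE1, hc1, t, htV, ht2, htE⟩ := exists_hyper k2 k1 Nat.prime_three (by norm_num)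
      (E := E) ⟨⟨⟨fun a b => Subtype.ext (hE.comm a a.2 b b.2)⟩⟩, hE.exp⟩ (fun c hc v hv => k4 c (hEC hc) v hv)
    have hc81 : 81 ≤ Nat.card ↥E1 := by omega
    have hp1 : IsPGroup 3 ↥E1 := hE.isPGroup.to_le hE1
    obtain ⟨k, hk⟩ := hcl t ht2
    have hle2 : E1.map (MulAut.conj k⁻¹).toMonoidHom ≤ centralizer ({k⁻¹ * t * k} : Set G3) := by
      rintro _ ⟨e, he, rfl⟩
      have h5 := mem_cent.1 (htE he)
      rw [mem_cent]
      change k⁻¹ * e * k⁻¹⁻¹ * (k⁻¹ * t * k) = k⁻¹ * t * k * (k⁻¹ * e * k⁻¹⁻¹)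
      calc k⁻¹ * e * k⁻¹⁻¹ * (k⁻¹ * t * k) = k⁻¹ * (e * t) * k := by group
        _ = k⁻¹ * t * k * (k⁻¹ * e * k⁻¹⁻¹) := by rw [h5]; group
    have hcm : Nat.card ↥(E1.map (MulAut.conj k⁻¹).toMonoidHom) = Nat.card ↥E1 :=
      card_map_of_injective (MulAut.conj k⁻¹).injective
    rcases hk with hk | hk
    · rw [hk] at hle2
      refine no_abelian (hp1.map (MulAut.conj k⁻¹).toMonoidHom) (by rw [hcm]; exact hc81) ?_ hle2
      rintro _ ⟨a, ha, rfl⟩ _ ⟨b, hb, rfl⟩
      rw [← map_mul, ← map_mul, hE.comm a (hE1 ha) b (hE1 hb)]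
    · rw [hk] at hle2
      have h5 := (card_dvd_of_le hle2).trans hBB.card_dvd
      rw [hcm] at h5
      obtain ⟨n, hn⟩ := hp1.exists_card_eq
      rw [hn] at h5 hc81
      have hn4 : 4 ≤ n := by
        by_contra hcon
        have : 3 ^ n ≤ 3 ^ 3 := Nat.pow_le_pow_right (by norm_num) (by omega)
        omega
      have := (pow_dvd_pow 3 hn4).trans h5
      revert this
      norm_num
  · -- class 2B
    obtain ⟨R, hR, hRc, hRy⟩ := Co3Syl.three_dvd hy3
    obtain ⟨k, hk⟩ := hV2.exists_card_eq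
    have hk5 : k ≤ 5 := by
      by_contra hcon
      apply not_sixty_four hyo
      have h4 : 2 ^ 6 ∣ Nat.card ↥V := by rw [hk]; exact pow_dvd_pow 2 (by omega)
      exact h4.trans (card_dvd_of_le hV3)
    have h4 := dvd_cent_V hV2 hk Nat.prime_three (by norm_num) hR (fun c hc v hv => hV4 c (hRy hc) v hv) (a := 4) (b := 2)
      hRc (by
        intro d hd
        have hd5 : d ≤ 5 := hd.trans hk5
        interval_cases d <;> decide)
    have h9 : 9 ∣ Nat.card ↥(R ⊓ centralizer (V : Set G3)) := by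
      have h5 : (9 : ℕ) * 9 ∣ 9 * Nat.card ↥(R ⊓ centralizer (V : Set G3)) := h4
      exact Nat.dvd_of_mul_dvd_mul_left (by norm_num) h5
    have hRz : R ⊓ centralizer (V : Set G3) ≤ centralizer ({z} : Set G3) := by
      intro r hr
      rw [mem_cent]
      exact (mem_centralizer_iff.1 hr.2 z hzV).symm
    by_cases hVz : ∃ v ∈ V, v ≠ 1 ∧ v ≠ z
    · obtain ⟨v, hv, hv1, hvz⟩ := hVz
      obtain ⟨n, hn⟩ := hV2 ⟨v, hv⟩
      refine hBB.not_nine (v := v) (n := n) (congrArg Subtype.val hn) (hzc v hv) hv1 hvz (hR.to_le inf_le_left) hRz ?_ h9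
      intro r hr
      rw [mem_cent]
      exact (mem_centralizer_iff.1 hr.2 v hv).symm
    · push Not at hVz
      have hRz' : R ≤ centralizer ({z} : Set G3) := by
        intro r hr
        rw [mem_cent]
        have h5 := hV4 r (hRy hr) z hzV
        have h6 : r * z * r⁻¹ ≠ 1 := by
          intro h6
          apply hw1
          calc z = r⁻¹ * (r * z * r⁻¹) * r := by group
            _ = 1 := by rw [h6]; group
        have h7 := hVz _ h5 h6
        exact mul_inv_eq_iff_eq_mul.1 h7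
      have h5 := (hRc.trans (card_dvd_of_le hRz')).trans hBB.card_dvd
      revert h5
      norm_num

/-- the centralizer of an element in a `p`-group -/
theorem sq_dvd_cent {H : Type*} [Group H] [Finite H] {p : ℕ} [hp : Fact p.Prime] {P : Subgroup H} (hP : IsPGroup p ↥P)
    (h2 : p ^ 2 ∣ Nat.card ↥P) {x : H} (hx : x ∈ P) : p ^ 2 ∣ Nat.card ↥(P ⊓ centralizer ({x} : Set H)) := by
  set C : Subgroup H := P ⊓ centralizer ({x} : Set H) with hC
  have hCp : IsPGroup p ↥C := hP.to_le inf_le_left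
  have hnt : Nontrivial ↥P := by
    apply Finite.one_lt_card_iff_nontrivial.1
    have h3 := Nat.le_of_dvd Nat.card_pos h2
    have h4 : 1 < p ^ 2 := Nat.one_lt_pow (by norm_num) hp.out.one_lt
    omega
  have hcen : Nontrivial (center ↥P) := hP.center_nontrivial
  have hle : (center ↥P).map P.subtype ≤ C := by
    rintro _ ⟨c, hc, rfl⟩
    refine ⟨c.2, mem_cent.2 ?_⟩
    exact congrArg Subtype.val (mem_center_iff.1 hc ⟨x, hx⟩).symm
  obtain ⟨n, hn⟩ := hCp.exists_card_eq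
  by_cases hxc : (⟨x, hx⟩ : ↥P) ∈ center ↥P
  · have : C = P := by
      apply le_antisymm inf_le_left
      intro y hy
      refine ⟨hy, mem_cent.2 ?_⟩
      exact congrArg Subtype.val (mem_center_iff.1 hxc ⟨y, hy⟩)
    rw [this]
    exact h2
  · rw [hn]
    apply pow_dvd_pow
    by_contra hcon
    have h3 : Nat.card ↥((center ↥P).map P.subtype) = Nat.card (center ↥P) := card_map_of_injective P.subtype_injective
    have h4 := card_dvd_of_le hle
    rw [h3, hn] at h4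
    have h5 := Finite.one_lt_card_iff_nontrivial.2 hcen
    have hn1 : n = 1 := by
      rcases Nat.lt_or_ge n 1 with h | h
      · obtain rfl : n = 0 := by omega
        rw [pow_zero] at h4
        have := Nat.le_of_dvd one_pos h4
        omega
      · omega
    rw [hn1, pow_one] at h4
    have h6 : Nat.card (center ↥P) = p := by
      rcases (Nat.dvd_prime hp.out).1 h4 with h | h
      · omega
      · exact h
    have h7 : (center ↥P).map P.subtype = C := by
      refine Subgroup.eq_of_le_of_card_ge hle ?_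
      rw [h3, h6, hn, hn1, pow_one]
    have h8 : x ∈ C := ⟨hx, mem_cent.2 rfl⟩
    rw [← h7] at h8
    obtain ⟨c, hc, hcx⟩ := h8
    apply hxc
    have : (⟨x, hx⟩ : ↥P) = c := Subtype.ext hcx.symm
    rw [this]
    exact hc

/-- **elements of order five** -/
theorem core_five {x : G3} (hx : orderOf x = 5) : pCore 2 ↥(centralizer ({x} : Set G3)) = ⊥ := by
  have h5p : Fact (Nat.Prime 5) := ⟨by norm_num⟩
  obtain ⟨w, hw1, hBB, hcl⟩ := exists_BB
  by_contra hne
  obtain ⟨y, ⟨g, hy⟩, z, hz, V, hV1, hV2, hV3, hV4, hzV, hzc⟩ := exists_V' hne hcl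
  have hyo : orderOf y = 5 := by rw [hy, orderOf_conj, hx]
  -- a subgroup of order 25
  obtain ⟨R, hR, hR25, hRy⟩ : ∃ R : Subgroup G3, IsPGroup 5 ↥R ∧ 5 ^ 2 ∣ Nat.card ↥R ∧
      R ≤ centralizer ({y} : Set G3) := by
    have hz : IsPGroup 5 (zpowers y) := by
      apply IsPGroup.of_card (n := 1)
      rw [Nat.card_zpowers, hyo, pow_one]
    obtain ⟨P, hP⟩ := hz.exists_le_sylow
    have hP25 : 5 ^ 2 ∣ Nat.card ↥(P : Subgroup G3) :=
      P.pow_dvd_card_of_pow_dvd_card (by rw [card_G3]; norm_num)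
    exact ⟨_, P.isPGroup'.to_le inf_le_left, sq_dvd_cent P.isPGroup' hP25 (hP (mem_zpowers y)), inf_le_right⟩
  rcases hz with rfl | rfl
  · obtain ⟨π, N⟩ := KFacts.Co3D4.exists_NS_G3
    have hyZ : y * Z = Z * y := (mem_cent.1 (hV3 hzV)).symm
    have hRZ : R ≤ centralizer ({Z} : Set G3) := by
      intro r hr
      rw [mem_cent]
      have h1 := hV4 r (hRy hr) Z hzV
      have hZ2 : Z * Z = 1 := SporRec.Co3.Fusion.t_sq N
      have hZ1 : Z ≠ 1 := SporRec.Co3.Fusion.t_ne N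
      have h2 : r * Z * r⁻¹ * (r * Z * r⁻¹) = 1 := by
        calc r * Z * r⁻¹ * (r * Z * r⁻¹) = r * (Z * Z) * r⁻¹ := by group
          _ = 1 := by rw [hZ2]; group
      have h3 : r * Z * r⁻¹ ≠ 1 := by
        intro h6
        apply hZ1
        calc Z = r⁻¹ * (r * Z * r⁻¹) * r := by group
          _ = 1 := by rw [h6]; group
      have h4 := CpAutCoThreeFive.invol_unique N hyo hyZ h2 h3 (hzc _ h1) (mem_cent.1 (hV3 h1))
      exact mul_inv_eq_iff_eq_mul.1 h4
    have h1 := (hR25.trans (card_dvd_of_le hRZ)).trans (card_cent N)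
    revert h1
    norm_num
  · obtain ⟨hz2, f, hf⟩ := id hBB
    have h20 : Nat.card ↥V ∣ 4 * 5 := by
      refine (card_dvd_of_le ?_).trans (CpAutCoThreeFive.card_dvd_twenty hz2 f hf hyo (mem_cent.1 (hV3 hzV)))
      intro v hv
      exact CpAut.SmallP.mem_DD.2 ⟨hzc v hv, mem_cent.1 (hV3 hv)⟩
    obtain ⟨k, hk⟩ := hV2.exists_card_eq
    have hk2 : k ≤ 2 := by
      by_contra hcon
      rw [hk] at h20
      have := (pow_dvd_pow 2 (show 3 ≤ k by omega)).trans h20
      revert this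
      norm_num
    have h4 := dvd_cent_V hV2 hk (by norm_num : Nat.Prime 5) (by norm_num) hR (fun c hc v hv => hV4 c (hRy hc) v hv)
      (a := 2) (b := 0) hR25 (by
        intro d hd
        have hd5 : d ≤ 2 := hd.trans hk2
        interval_cases d <;> decide)
    rw [pow_zero, one_mul] at h4
    have h1 := (h4.trans (card_dvd_of_le (show R ⊓ centralizer (V : Set G3) ≤ centralizer ({z} : Set G3) from fun r hr => by
      rw [mem_cent]
      exact (mem_centralizer_iff.1 hr.2 z hzV).symm))).trans hBB.card_dvd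
    revert h1
    norm_num

theorem prime_cases {r : ℕ} (hr : r.Prime) (hd : r ∣ Nat.card G3) (h2 : r ≠ 2) :
    r = 3 ∨ r = 5 ∨ r = 7 ∨ r = 11 ∨ r = 23 := by
  rw [card_G3] at hd
  have key : ∀ {s : ℕ}, s.Prime → r ∣ s → r = s := fun hs h => (Nat.prime_dvd_prime_iff_eq hr hs).1 h
  rcases (Nat.Prime.dvd_mul hr).1 hd with hd | hd
  · rcases (Nat.Prime.dvd_mul hr).1 hd with hd | hd
    · rcases (Nat.Prime.dvd_mul hr).1 hd with hd | hd
      · rcases (Nat.Prime.dvd_mul hr).1 hd with hd | hd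
        · rcases (Nat.Prime.dvd_mul hr).1 hd with hd | hd
          · exact absurd (key Nat.prime_two (hr.dvd_of_dvd_pow hd)) h2
          · exact Or.inl (key Nat.prime_three (hr.dvd_of_dvd_pow hd))
        · exact Or.inr (Or.inl (key (by norm_num) (hr.dvd_of_dvd_pow hd)))
      · exact Or.inr (Or.inr (Or.inl (key (by norm_num) hd)))
    · exact Or.inr (Or.inr (Or.inr (Or.inl (key (by norm_num) hd))))
  · exact Or.inr (Or.inr (Or.inr (Or.inr (key (by norm_num) hd))))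

theorem isoCo3_G3 : Spor.IsoCo3 G3 := ⟨SporRec.Co3.Model.equivCo3⟩

theorem factA_G3 : FactA G3 := by
  have h3 : Fact (Nat.Prime 3) := ⟨Nat.prime_three⟩
  obtain ⟨P⟩ : Nonempty (Sylow 3 G3) := inferInstance
  have hP : 3 ^ 7 ∣ Nat.card ↥(P : Subgroup G3) := P.pow_dvd_card_of_pow_dvd_card (by rw [card_G3]; norm_num)
  have hle : 3 ^ 7 ≤ Nat.card ↥(P : Subgroup G3) := Nat.le_of_dvd Nat.card_pos hP
  refine ⟨P, ?_, fun w hw hw2 => ?_⟩
  · obtain ⟨n, hn⟩ := P.isPGroup'.exists_card_eq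
    rw [hn]
    exact Odd.pow (by decide)
  · have hz : ∀ r, orderOf w = r → Nat.card ↥(zpowers w) = r := fun r h => by rw [Nat.card_zpowers, h]
    have hc : centralizer ((zpowers w : Subgroup G3) : Set G3) = centralizer ({w} : Set G3) := by
      rw [zpowers_eq_closure, centralizer_closure]
    rcases prime_cases hw (orderOf_dvd_natCard w) hw2 with h | h | h | h | h
    · exact Or.inl (core_three h)
    · exact Or.inl (core_five h)
    · right
      have h1 := (H970.Sep.Co3.cn7 isoCo3_G3 (zpowers w) (hz _ h)).1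
      rw [hc] at h1
      omega
    · right
      have h1 := H555.TwoSp.c11 isoCo3_G3 (zpowers w) (hz _ h)
      rw [hc] at h1
      omega
    · right
      have h1 := H555.TwoSp.c23 isoCo3_G3 (zpowers w) (hz _ h)
      rw [hc] at h1
      omega

/-- **The row `Co₃` of S4095 at the prime 2.** -/
theorem row {L : Type u} [Group L] [Finite L] (h : Cfsg.Spor.IsoCo3 L) (B : Base L) : Cfsg.Agent.H516.Row 2 L := by
  obtain ⟨e⟩ := H143.RowCo3.equiv_G3 h
  refine row_of_facts B (FactA.congr e.symm factA_G3) ?_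
  refine factB_of_good (r := 3) (x := e.symm (CpAutCo3.MTw.ee (H287.Blk.CoThree.x : SigZero.CoThreeB.K))) (by norm_num) ?_ ?_ ?_
  · rw [MulEquiv.orderOf_eq]
    exact H287.Blk.CoThree.orderOf_x
  · refine H287.Blk.Good.congr e ?_
    rw [e.apply_symm_apply]
    exact H287.Blk.CoThree.good
  · exact core_congr e.symm fun x hx => core_three hx

end Cfsg.Agent.H945.Wk.Co3
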