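import Cfsg.Agent.H945.Wk.Tools
import Cfsg.Agent.H143.Co3Inv

/-!
# `Co₃` : `81` divides the order of the centralizer of every element of order three (helper945)

The Sylow 3-subgroup `P` of `Cfsg.Agent.H526.Co3Three` has order `3 ^ 7` and the commutators of its elements lie in a subgroup
`D` of order at most 27.
-/

set_option autoImplicit false

namespace Cfsg.Agent.H945.Wk.Co3Syl

open Subgroup Cfsg Cfsg.Agent.SporRec.LeechChain Cfsg.Agent.SporRec.Co3.MatData Cfsg.Agent.SporRec.Co3.ChainData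
  Cfsg.Agent.SporRec.Co3.Chain Cfsg.Agent.H526.PcNf Cfsg.Agent.H526.Co3Data Cfsg.Agent.H526.Co3Three

/-- the words of the generators of `D` -/
def Dl : ℕ → List ℕ
  | 0 => [10, 12, 12]
  | 1 => [11, 12, 13]
  | _ => [14]

/-- words -/
def Dw (l : List ℕ) : List ℕ := l.flatMap Dl

/-- conjugation -/
def cT : ℕ → ℕ → List ℕ
  | 0, 1 => [1, 2]
  | 1, 0 => [0, 2]
  | 1, 1 => [1, 2, 2]
  | _, j => [j]

/-- commutators -/
def mT : ℕ → ℕ → List ℕ
  | 0, 1 => [2, 2]
  | 0, 2 => [0, 1, 1, 2, 2]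
  | 0, 3 => [0, 1, 2]
  | 0, 4 => [0, 1, 1, 2, 2]
  | 0, 5 => [0, 2]
  | 1, 2 => [0, 0, 1, 1, 2, 2]
  | 1, 3 => [0, 2]
  | 1, 4 => [0, 0, 1, 1, 2]
  | 1, 5 => [1]
  | _, _ => []

theorem conj_all : ((List.range 7).all fun i => (List.range 3).all fun j =>
    chk ([8 + i] ++ Dw [j]) (Dw (cT i j) ++ [8 + i])) = true := by decide +kernel

theorem comm_all : ((List.range 7).all fun i => (List.range 7).all fun j =>
    !(Nat.blt i j) || chk [8 + i, 8 + j] (Dw (mT i j) ++ [8 + j, 8 + i])) = true := by decide +kernel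

theorem cube_all : ((List.range 3).all fun j => chk (Dw [j, j, j]) []) = true := by decide +kernel

theorem ab_all : ((List.range 3).all fun i => (List.range 3).all fun j => chk (Dw [i, j]) (Dw [j, i])) = true := by
  decide +kernel

theorem cT_lt : ∀ i < 7, ∀ j < 3, ∀ k ∈ cT i j, k < 3 := by decide
theorem mT_lt : ∀ i < 7, ∀ j < 7, ∀ k ∈ mT i j, k < 3 := by decide

/-- the generators of `D` -/
noncomputable def d (j : ℕ) : G3 := ((Dl j).map L).prod

theorem prod_Dw (l : List ℕ) : ((Dw l).map L).prod = (l.map d).prod := by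
  induction l with
  | nil => rfl
  | cons a l ih =>
    rw [show Dw (a :: l) = Dl a ++ Dw l from rfl, List.map_append, List.prod_append, ih, List.map_cons, List.prod_cons]
    rfl

/-- the subgroup `D` -/
noncomputable def D : Subgroup G3 := closure (Sk 3 d 0)

theorem d_mem {j : ℕ} (h : j < 3) : d j ∈ D := subset_closure ⟨j, Nat.zero_le _, h, rfl⟩

theorem prod_mem_D {l : List ℕ} (h : ∀ k ∈ l, k < 3) : (l.map d).prod ∈ D := by
  apply Subgroup.list_prod_mem
  intro y hy
  obtain ⟨k, hk, rfl⟩ := List.mem_map.1 hy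
  exact d_mem (h k hk)

theorem pcd : Pc 3 3 d where
  pow i hi := by
    have h := eq_of_chk (List.all_eq_true.1 cube_all i (List.mem_range.2 hi))
    rw [prod_Dw] at h
    simpa [pow_succ, mul_assoc] using h
  rel i j hij hj := by
    have h := eq_of_chk (List.all_eq_true.1 (List.all_eq_true.1 ab_all i (List.mem_range.2 (by omega))) j
      (List.mem_range.2 hj))
    rw [prod_Dw, prod_Dw] at h
    have h1 : d i * d j = d j * d i := by simpa using h
    rw [h1, mul_inv_cancel_right]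
    exact subset_closure ⟨j, by omega, hj, rfl⟩

instance finG3 : Finite G3 := H143.Co3Inv.finG3

theorem card_D : Nat.card ↥D ≤ 27 := by
  classical
  have hs : Function.Surjective (fun N : Fin 27 => if h : ((nfw 3 3 0 N).map d).prod ∈ D then (⟨_, h⟩ : ↥D) else 1) := by
    rintro ⟨x, hx⟩
    obtain ⟨N, hN, rfl⟩ := pcd.exists_nf' (by norm_num) hx
    exact ⟨⟨N, hN⟩, by simp only [dif_pos hx]⟩
  have h := Nat.card_le_card_of_surjective _ hs
  have h27 : Nat.card (Fin 27) = 27 := by rw [Nat.card_eq_fintype_card, Fintype.card_fin]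
  rwa [h27] at h

theorem conj_D {i : ℕ} (hi : i < 7) : ∀ x ∈ D, p i * x * (p i)⁻¹ ∈ D := by
  have hle : D ≤ D.comap (MulAut.conj (p i)).toMonoidHom := by
    unfold D
    rw [closure_le]
    rintro _ ⟨j, -, hj, rfl⟩
    have h := eq_of_chk (List.all_eq_true.1 (List.all_eq_true.1 conj_all i (List.mem_range.2 hi)) j (List.mem_range.2 hj))
    rw [List.map_append, List.prod_append, List.map_append, List.prod_append, prod_Dw, prod_Dw] at h
    have h1 : p i * d j = ((cT i j).map d).prod * p i := by simpa [p] using h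
    change p i * d j * (p i)⁻¹ ∈ D
    rw [h1, mul_inv_cancel_right]
    exact prod_mem_D (cT_lt i hi j hj)
  exact fun x hx => hle hx

theorem comm_lt {i j : ℕ} (hij : i < j) (hj : j < 7) : p i * p j * (p i)⁻¹ * (p j)⁻¹ ∈ D := by
  have h := List.all_eq_true.1 (List.all_eq_true.1 comm_all i (List.mem_range.2 (by omega))) j (List.mem_range.2 hj)
  rw [Bool.or_eq_true] at h
  rcases h with h | h
  · rw [Bool.not_eq_true', ← Bool.not_eq_true, Nat.blt_eq] at h
    exact absurd hij h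
  · have h1 := eq_of_chk h
    rw [List.map_append, List.prod_append, prod_Dw] at h1
    have h2 : p i * p j = ((mT i j).map d).prod * (p j * p i) := by simpa [p] using h1
    rw [h2]
    have e : ((mT i j).map d).prod * (p j * p i) * (p i)⁻¹ * (p j)⁻¹ = ((mT i j).map d).prod := by group
    rw [e]
    exact prod_mem_D (mT_lt i (by omega) j hj)

theorem comm_gen : ∀ s ∈ Sk 7 p 0, ∀ t ∈ Sk 7 p 0, s * t * s⁻¹ * t⁻¹ ∈ D := by
  rintro _ ⟨i, -, hi, rfl⟩ _ ⟨j, -, hj, rfl⟩
  rcases Nat.lt_trichotomy i j with h | rfl | h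
  · exact comm_lt h hj
  · have e : p i * p i * (p i)⁻¹ * (p i)⁻¹ = 1 := by group
    rw [e]
    exact one_mem _
  · have h1 := inv_mem (comm_lt h hi)
    have e : (p j * p i * (p j)⁻¹ * (p i)⁻¹)⁻¹ = p i * p j * (p i)⁻¹ * (p j)⁻¹ := by group
    rwa [e] at h1

/-- **`81` divides the order of the centralizer of every element of order three.** -/
theorem three_dvd {w : G3} (hw : w ^ 3 = 1) : ∃ R : Subgroup G3, IsPGroup 3 ↥R ∧ 3 ^ 4 ∣ Nat.card ↥R ∧
    R ≤ centralizer ({w} : Set G3) := by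
  have h3 : Fact (Nat.Prime 3) := ⟨Nat.prime_three⟩
  obtain ⟨S, hS⟩ := H143.Co3Inv.exists_sylow
  have hz : IsPGroup 3 (zpowers w) := by
    intro y
    obtain ⟨k, hk⟩ := mem_zpowers_iff.1 y.2
    refine ⟨1, Subtype.ext ?_⟩
    have : (w ^ k) ^ 3 = 1 := by rw [← zpow_natCast, ← zpow_mul, mul_comm, zpow_mul, zpow_natCast, hw, one_zpow]
    simpa [← hk] using this
  obtain ⟨R, hR⟩ := hz.exists_le_sylow
  obtain ⟨g, hg⟩ := MulAction.exists_smul_eq G3 R S
  have hx : g * w * g⁻¹ ∈ (S : Subgroup G3) := by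
    rw [← hg]
    exact ⟨w, hR (mem_zpowers w), rfl⟩
  rw [hS] at hx
  have h1 := card_le_of_comm (comm_closure (S := Sk 7 p 0) (D := D)
    (by rintro _ ⟨i, -, hi, rfl⟩; exact conj_D hi) comm_gen) hx
  have h2 := hlow
  have h4 := card_D
  set T : Subgroup G3 := closure (Sk 7 p 0) ⊓ centralizer ({g * w * g⁻¹} : Set G3) with hT
  have hTp : IsPGroup 3 ↥T := (pc.isPGroup 7 0 (by norm_num)).to_le inf_le_left
  have h5 : 3 ^ 4 ∣ Nat.card ↥T := by
    obtain ⟨n, hn⟩ := hTp.exists_card_eq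
    rw [hn] at h1 ⊢
    apply pow_dvd_pow
    by_contra hcon
    have h6 : 3 ^ n ≤ 3 ^ 3 := Nat.pow_le_pow_right (by norm_num) (by omega)
    have h7 := h1.trans (Nat.mul_le_mul h4 h6)
    omega
  refine ⟨T.map (MulAut.conj g⁻¹).toMonoidHom, hTp.map _, ?_, ?_⟩
  · rwa [card_map_of_injective (MulAut.conj g⁻¹).injective]
  · rintro _ ⟨t, ht, rfl⟩
    have h6 := mem_cent.1 ht.2
    rw [mem_cent]
    change g⁻¹ * t * g⁻¹⁻¹ * w = w * (g⁻¹ * t * g⁻¹⁻¹)
    calc g⁻¹ * t * g⁻¹⁻¹ * w = g⁻¹ * (t * (g * w * g⁻¹)) * g := by group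
      _ = w * (g⁻¹ * t * g⁻¹⁻¹) := by rw [h6]; group

end Cfsg.Agent.H945.Wk.Co3Syl
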