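import Cfsg.Agent.H509.WeakBlock
import Cfsg.Agent.H287.Blk.Base
import Cfsg.Agent.BpSpor.Act
import Cfsg.Agent.OddOrderLocal.HyperplaneFixed

/-!
# S4095 at the prime 2, sporadic rows: tools (helper945)

* `exists_V` : `O_2(C(w)) ≠ 1` as a subgroup `V` of `G`, with an involution `z` central in `V`;
* `dvd_cent_V` : `R` an `r`-group (`r` odd) normalizing the 2-group `V`, `|V| = 2 ^ k`, `r ^ a ∣ |R|`, `r ^ (b + 1)` does not
  divide `|GL_d(2)|` for `d ≤ k`: `r ^ a ∣ r ^ b * |R ∩ C(V)|`;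
* `exists_hyper` : `E` elementary abelian of odd exponent normalizing `V ≠ 1`: `E₁ ≤ E` of index at most `r` commutes with an
  involution of `V`;
* `comm_closure`, `dvd_cent_of_comm` : commutators of `⟨S⟩` and lower bounds for centralizers;
* `FactA.congr`, `factB_of_good`.
-/

set_option autoImplicit false
set_option linter.unusedSectionVars false

namespace Cfsg.Agent.H945.Wk

open Subgroup Cfsg
open Cfsg.Agent.H509.Weak

universe u v

section

variable {G : Type u} [Group G] [Finite G]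

theorem mem_cent {x y : G} : y ∈ centralizer ({x} : Set G) ↔ y * x = x * y := by
  rw [mem_centralizer_singleton_iff]

/-- the centralizers of conjugate elements -/
theorem core_conj {x g : G} (h : pCore 2 ↥(centralizer ({g * x * g⁻¹} : Set G)) = ⊥) :
    pCore 2 ↥(centralizer ({x} : Set G)) = ⊥ :=
  pCore_equiv (centEquiv (MulAut.conj g) x).symm h

theorem exists_V {w : G} (h : pCore 2 ↥(centralizer ({w} : Set G)) ≠ ⊥) :
    ∃ V : Subgroup G, V ≠ ⊥ ∧ IsPGroup 2 ↥V ∧ V ≤ centralizer ({w} : Set G) ∧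
      (∀ c ∈ centralizer ({w} : Set G), ∀ v ∈ V, c * v * c⁻¹ ∈ V) ∧
      ∃ z ∈ V, orderOf z = 2 ∧ ∀ v ∈ V, v * z = z * v := by
  have hp : Fact (Nat.Prime 2) := ⟨Nat.prime_two⟩
  set P : Subgroup ↥(centralizer ({w} : Set G)) := pCore 2 ↥(centralizer ({w} : Set G)) with hP
  have hPn : P.Normal := Lib.Cores.pCore_normal 2
  have hPp : IsPGroup 2 ↥P := Lib.Cores.pCore_isPGroup 2
  have hnt : Nontrivial ↥P := (Subgroup.nontrivial_iff_ne_bot P).2 h
  have hcen : Nontrivial (center ↥P) := hPp.center_nontrivial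
  have hcp : IsPGroup 2 (center ↥P) := hPp.to_subgroup _
  obtain ⟨z, hz⟩ : ∃ z : center ↥P, orderOf z = 2 := by
    apply exists_prime_orderOf_dvd_card' 2
    obtain ⟨n, hn⟩ := hcp.exists_card_eq
    rw [hn]
    apply dvd_pow_self
    rintro rfl
    rw [pow_zero] at hn
    have := Finite.one_lt_card_iff_nontrivial.2 hcen
    omega
  refine ⟨P.map (centralizer ({w} : Set G)).subtype, ?_, hPp.map _, ?_, ?_, ?_⟩
  · rw [Ne, map_eq_bot_iff_of_injective _ (subtype_injective _)]
    exact h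
  · rintro _ ⟨a, -, rfl⟩
    exact a.2
  · rintro c hc _ ⟨a, ha, rfl⟩
    exact ⟨⟨c, hc⟩ * a * ⟨c, hc⟩⁻¹, hPn.conj_mem a ha ⟨c, hc⟩, rfl⟩
  · refine ⟨((z : ↥P) : ↥(centralizer ({w} : Set G))), ⟨_, (z : ↥P).2, rfl⟩, ?_, ?_⟩
    · rw [Subgroup.orderOf_coe, Subgroup.orderOf_coe, Subgroup.orderOf_coe, hz]
    · rintro _ ⟨a, ha, rfl⟩
      have h1 := mem_center_iff.1 z.2 ⟨a, ha⟩
      have h2 := congrArg (fun t : ↥P => ((t : ↥(centralizer ({w} : Set G))) : G)) h1
      exact h2

theorem dvd_cent_V {V R : Subgroup G} (hV : IsPGroup 2 ↥V) {k : ℕ} (hk : Nat.card ↥V = 2 ^ k) {r : ℕ} (hr : r.Prime)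
    (hr2 : r ≠ 2) (hR : IsPGroup r ↥R) (hRV : ∀ c ∈ R, ∀ v ∈ V, c * v * c⁻¹ ∈ V) {a b : ℕ} (ha : r ^ a ∣ Nat.card ↥R)
    (hb : ∀ d ≤ k, ¬ r ^ (b + 1) ∣ ∏ i : Fin d, (2 ^ d - 2 ^ (i : ℕ))) :
    r ^ a ∣ r ^ b * Nat.card ↥(R ⊓ centralizer (V : Set G)) := by
  have hp : Fact (Nat.Prime 2) := ⟨Nat.prime_two⟩
  have hrf : Fact r.Prime := ⟨hr⟩
  have hRN : R ≤ normalizer (V : Set G) := fun c hc => mem_normalizer_fintype fun v hv => hRV c hc v hv
  let φ : ↥R →* MulAut ↥V := (normalizerMonoidHom V).comp (inclusion hRN)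
  have hφ : ∀ (c : ↥R) (v : ↥V), ((φ c v : ↥V) : G) = c * v * (c : G)⁻¹ := fun c v => rfl
  have hker : Nat.card ↥φ.ker = Nat.card ↥(R ⊓ centralizer (V : Set G)) := by
    have h1 : φ.ker.map R.subtype = R ⊓ centralizer (V : Set G) := by
      ext g
      constructor
      · rintro ⟨c, hc, rfl⟩
        refine ⟨c.2, mem_centralizer_iff.2 fun v hv => ?_⟩
        have h2 := hφ c ⟨v, hv⟩
        have h3 : φ c = 1 := hc
        rw [h3] at h2
        have h4 : v = c * v * (c : G)⁻¹ := h2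
        have h5 : v * (c : G) = c * v := by
          nth_rewrite 1 [h4]
          rw [inv_mul_cancel_right]
        exact h5
      · rintro ⟨h1, h2⟩
        refine ⟨⟨g, h1⟩, ?_, rfl⟩
        rw [SetLike.mem_coe, MonoidHom.mem_ker]
        ext v
        rw [hφ]
        have h3 := mem_centralizer_iff.1 h2 v v.2
        change g * (v : G) * g⁻¹ = v
        rw [← h3, mul_inv_cancel_right]
    rw [← h1, card_map_of_injective R.subtype_injective]
  obtain ⟨d, M, hd, -, hM⟩ := BpSpor.card_mulAut_dvd hV hk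
  have h1 : Nat.card ↥R = Nat.card ↥φ.ker * Nat.card ↥φ.range := by
    rw [← index_ker, card_mul_index]
  have h2 : IsPGroup r ↥φ.range := hR.of_surjective φ.rangeRestrict φ.rangeRestrict_surjective
  obtain ⟨n, hn⟩ := h2.exists_card_eq
  have h3 : r ^ n ∣ 2 ^ M * ∏ i : Fin d, (2 ^ d - 2 ^ (i : ℕ)) := by
    rw [← hn]
    exact (card_subgroup_dvd_card _).trans hM
  have h4 : (r ^ n).Coprime (2 ^ M) := Nat.Coprime.pow _ _ ((Nat.coprime_primes hr Nat.prime_two).2 hr2)
  have h5 := h4.dvd_of_dvd_mul_left h3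
  have h6 : n ≤ b := by
    by_contra hcon
    exact hb d hd ((pow_dvd_pow r (by omega)).trans h5)
  rw [← hker, mul_comm]
  rw [h1, hn] at ha
  exact ha.trans (mul_dvd_mul_left _ (pow_dvd_pow r h6))

theorem exists_hyper {V E : Subgroup G} (hV : IsPGroup 2 ↥V) (hV1 : V ≠ ⊥) {r : ℕ} (hr : r.Prime) (hr2 : r ≠ 2)
    (hE : Cfsg.IsElementaryAbelian r E) (hEV : ∀ c ∈ E, ∀ v ∈ V, c * v * c⁻¹ ∈ V) :
    ∃ E₁ : Subgroup G, E₁ ≤ E ∧ Nat.card ↥E ≤ r * Nat.card ↥E₁ ∧ ∃ t ∈ V, orderOf t = 2 ∧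
      E₁ ≤ centralizer ({t} : Set G) := by
  have hp : Fact (Nat.Prime 2) := ⟨Nat.prime_two⟩
  obtain ⟨E₁, h1, h2, h3⟩ := OddOrderLocal.HyperplaneFixed.exists_relIndex_le hr Nat.prime_two hr2 E V hE hV hV1
    (fun c hc => mem_normalizer_fintype fun v hv => hEV c hc v hv)
  refine ⟨E₁, h1, ?_, ?_⟩
  · have h4 := (E₁.subgroupOf E).card_mul_index
    rw [Nat.card_congr (subgroupOfEquivOfLe h1).toEquiv, mul_comm] at h4
    rw [← h4]
    exact Nat.mul_le_mul_right _ h2
  · have h4 : IsPGroup 2 ↥(V ⊓ centralizer (E₁ : Set G)) := hV.to_le inf_le_left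
    have h5 := (Subgroup.nontrivial_iff_ne_bot _).2 h3
    obtain ⟨t, ht⟩ : ∃ t : ↥(V ⊓ centralizer (E₁ : Set G)), orderOf t = 2 := by
      apply exists_prime_orderOf_dvd_card' 2
      obtain ⟨n, hn⟩ := h4.exists_card_eq
      rw [hn]
      apply dvd_pow_self
      rintro rfl
      rw [pow_zero] at hn
      have := Finite.one_lt_card_iff_nontrivial.2 h5
      omega
    refine ⟨t, t.2.1, by rw [Subgroup.orderOf_coe, ht], fun e he => ?_⟩
    rw [mem_cent]
    exact mem_centralizer_iff.1 t.2.2 e he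

/-- the commutators of `⟨S⟩` -/
theorem comm_closure {S : Set G} {D : Subgroup G} (hn : ∀ s ∈ S, ∀ d ∈ D, s * d * s⁻¹ ∈ D)
    (hc : ∀ s ∈ S, ∀ t ∈ S, s * t * s⁻¹ * t⁻¹ ∈ D) :
    ∀ g ∈ closure S, ∀ h ∈ closure S, g * h * g⁻¹ * h⁻¹ ∈ D := by
  have hN : closure S ≤ normalizer (D : Set G) := by
    rw [closure_le]
    intro s hs
    exact mem_normalizer_fintype fun d hd => hn s hs d hd
  have hconj : ∀ g ∈ closure S, ∀ d ∈ D, g * d * g⁻¹ ∈ D := fun g hg d hd => (mem_normalizer_iff.1 (hN hg) d).1 hd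
  -- one letter
  have h1 : ∀ s ∈ S, ∀ h ∈ closure S, s * h * s⁻¹ * h⁻¹ ∈ D := by
    intro s hs h hh
    induction hh using closure_induction with
    | mem t ht => exact hc s hs t ht
    | one => simp [one_mem]
    | mul a b ha hb iha ihb =>
      have e : s * (a * b) * s⁻¹ * (a * b)⁻¹ = (s * a * s⁻¹ * a⁻¹) * (a * (s * b * s⁻¹ * b⁻¹) * a⁻¹) := by group
      rw [e]
      exact mul_mem iha (hconj a ha _ ihb)
    | inv a ha iha =>
      have e : s * a⁻¹ * s⁻¹ * a⁻¹⁻¹ = a⁻¹ * (s * a * s⁻¹ * a⁻¹)⁻¹ * (a⁻¹)⁻¹ := by group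
      rw [e]
      exact hconj _ (inv_mem ha) _ (inv_mem iha)
  intro g hg
  induction hg using closure_induction with
  | mem s hs => exact h1 s hs
  | one => intro h hh; simp [one_mem]
  | mul a b ha hb iha ihb =>
    intro h hh
    have e : a * b * h * (a * b)⁻¹ * h⁻¹ = (a * (b * h * b⁻¹ * h⁻¹) * a⁻¹) * (a * h * a⁻¹ * h⁻¹) := by group
    rw [e]
    exact mul_mem (hconj a ha _ (ihb h hh)) (iha h hh)
  | inv a ha iha =>
    intro h hh
    have e : a⁻¹ * h * a⁻¹⁻¹ * h⁻¹ = a⁻¹ * (a * h * a⁻¹ * h⁻¹)⁻¹ * (a⁻¹)⁻¹ := by group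
    rw [e]
    exact hconj _ (inv_mem ha) _ (inv_mem (iha h hh))

/-- `|P| ≤ |D| |C_P(w)|` -/
theorem card_le_of_comm {P D : Subgroup G} (h : ∀ g ∈ P, ∀ h ∈ P, g * h * g⁻¹ * h⁻¹ ∈ D) {w : G} (hw : w ∈ P) :
    Nat.card ↥P ≤ Nat.card ↥D * Nat.card ↥(P ⊓ centralizer ({w} : Set G)) := by
  set C : Subgroup ↥P := (centralizer ({w} : Set G)).subgroupOf P with hC
  let f : ↥P ⧸ C → ↥D := fun q => ⟨q.out * w * (q.out : G)⁻¹ * w⁻¹, h _ q.out.2 _ hw⟩
  have hf : Function.Injective f := by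
    intro a b hab
    have h1 : (a.out : G) * w * (a.out : G)⁻¹ * w⁻¹ = (b.out : G) * w * (b.out : G)⁻¹ * w⁻¹ := congrArg Subtype.val hab
    have h2 : (a.out : G) * w * (a.out : G)⁻¹ = (b.out : G) * w * (b.out : G)⁻¹ := mul_right_cancel h1
    rw [← QuotientGroup.out_eq' a, ← QuotientGroup.out_eq' b, QuotientGroup.eq]
    change (a.out : G)⁻¹ * (b.out : G) ∈ centralizer ({w} : Set G)
    rw [mem_cent]
    have h3 : (b.out : G) * w = (a.out : G) * w * (a.out : G)⁻¹ * (b.out : G) := by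
      rw [h2, inv_mul_cancel_right]
    calc (a.out : G)⁻¹ * (b.out : G) * w = (a.out : G)⁻¹ * ((b.out : G) * w) := by group
      _ = w * ((a.out : G)⁻¹ * (b.out : G)) := by rw [h3]; group
  have h1 : C.index ≤ Nat.card ↥D := by
    rw [index]
    exact Nat.card_le_card_of_injective f hf
  have h2 : Nat.card ↥C = Nat.card ↥(P ⊓ centralizer ({w} : Set G)) := by
    rw [inf_comm]
    exact Nat.card_congr (subgroupOfEquivOfLe (inf_le_right : centralizer ({w} : Set G) ⊓ P ≤ P)).toEquiv |> fun h => by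
      rw [← h, inf_subgroupOf_right]
  rw [← h2, ← C.card_mul_index, mul_comm]
  exact Nat.mul_le_mul_right _ h1

end

/-- transport -/
theorem FactA.congr {A : Type u} {B : Type v} [Group A] [Group B] (e : A ≃* B) (h : FactA A) : FactA B := by
  obtain ⟨Q, hQ, hall⟩ := h
  have key : ∀ x : B, ∃ f : ↥(centralizer ({e.symm x} : Set A)) ≃* ↥(centralizer ({x} : Set B)), True := by
    intro x
    refine ⟨(e.subgroupMap (centralizer ({e.symm x} : Set A))).trans (MulEquiv.subgroupCongr ?_), trivial⟩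
    ext g
    rw [mem_centralizer_singleton_iff]
    constructor
    · rintro ⟨s, hs, rfl⟩
      have h1 := mem_centralizer_singleton_iff.1 hs
      have h2 := congrArg e h1
      rw [map_mul, map_mul, e.apply_symm_apply] at h2
      exact h2
    · intro h
      refine ⟨e.symm g, ?_, e.apply_symm_apply g⟩
      rw [SetLike.mem_coe, mem_centralizer_singleton_iff]
      apply e.injective
      rw [map_mul, map_mul, e.apply_symm_apply, e.apply_symm_apply]
      exact h
  refine ⟨Q.map e.toMonoidHom, ?_, fun w hw hw2 => ?_⟩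
  · rw [card_map_of_injective e.injective]
    exact hQ
  · obtain ⟨f, -⟩ := key w
    have ho : orderOf (e.symm w) = orderOf w := e.symm.orderOf_eq w
    rcases hall (e.symm w) (by rw [ho]; exact hw) (by rw [ho]; exact hw2) with h1 | h1
    · exact Or.inl (pCore_equiv f h1)
    · right
      rw [card_map_of_injective e.injective, ← Nat.card_congr f.toEquiv]
      exact h1

/-- transport of `O_2(C(x)) = 1` for the elements of a given order -/
theorem core_congr {A : Type u} {B : Type v} [Group A] [Group B] (e : A ≃* B) {r : ℕ}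
    (h : ∀ x : A, orderOf x = r → pCore 2 ↥(centralizer ({x} : Set A)) = ⊥) :
    ∀ x : B, orderOf x = r → pCore 2 ↥(centralizer ({x} : Set B)) = ⊥ := by
  intro x hx
  have f : ↥(centralizer ({e.symm x} : Set A)) ≃* ↥(centralizer ({x} : Set B)) := by
    refine (e.subgroupMap (centralizer ({e.symm x} : Set A))).trans (MulEquiv.subgroupCongr ?_)
    ext g
    rw [mem_centralizer_singleton_iff]
    constructor
    · rintro ⟨s, hs, rfl⟩
      have h1 := mem_centralizer_singleton_iff.1 hs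
      have h2 := congrArg e h1
      rw [map_mul, map_mul, e.apply_symm_apply] at h2
      exact h2
    · intro h
      refine ⟨e.symm g, ?_, e.apply_symm_apply g⟩
      rw [SetLike.mem_coe, mem_centralizer_singleton_iff]
      apply e.injective
      rw [map_mul, map_mul, e.apply_symm_apply, e.apply_symm_apply]
      exact h
  exact pCore_equiv f (h _ (by rw [MulEquiv.orderOf_eq, hx]))

open Cfsg.Agent.Blocks.LocalRing Cfsg.Agent.Blocks Cfsg.Agent.H652.Four in
/-- **`FactB` from a good element** (`H287.Blk.Good`) when all the elements of its order satisfy `O_2(C(y)) = 1`. -/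
theorem factB_of_good {L : Type u} [Group L] {r : ℕ} {x : L} (hr : r ≠ 1) (hx : orderOf x = r)
    (h : H287.Blk.Good r x) (hO : ∀ y : L, orderOf y = r → pCore 2 ↥(centralizer ({y} : Set L)) = ⊥) : FactB L := by
  refine ⟨{y | orderOf y = r}, ?_, ?_, ?_⟩
  · intro β y hy
    change orderOf (β y) = r
    rw [MulEquiv.orderOf_eq]
    exact hy
  · intro y hy
    refine ⟨?_, hO y hy⟩
    rintro rfl
    have h1 : orderOf (1 : L) = r := hy
    rw [orderOf_one] at h1
    exact hr h1.symm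
  · intro M hM
    refine h M hM _ ⟨?_, ?_, ?_, ?_⟩
    · intro g y
      have h1 : orderOf (g * y * g⁻¹) = orderOf y := MulEquiv.orderOf_eq (MulAut.conj g) y
      by_cases h2 : orderOf y = r
      · rw [ind_pos (show y ∈ {y : L | orderOf y = r} from h2),
          ind_pos (show g * y * g⁻¹ ∈ {y : L | orderOf y = r} from h1.trans h2)]
      · rw [ind_neg (show y ∉ {y : L | orderOf y = r} from h2),
          ind_neg (show g * y * g⁻¹ ∉ {y : L | orderOf y = r} from fun h3 => h2 (h1.symm.trans h3))]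
    · intro g
      by_cases h2 : orderOf g = r
      · rw [ind_pos (show g ∈ {y : L | orderOf y = r} from h2)]
        have := memLocalRing_natCast hM 1
        simpa using this
      · rw [ind_neg (show g ∉ {y : L | orderOf y = r} from h2)]
        have := memLocalRing_natCast hM 0
        simpa using this
    · intro g hg
      by_contra h2
      exact hg (ind_neg (show g ∉ {y : L | orderOf y = r} from h2))
    · rw [ind_pos (show x ∈ {y : L | orderOf y = r} from hx)]
      intro h1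
      have h2 : MemLocalIdeal M ((1 : ℕ) : ℂ) := by simpa using h1
      rw [memLocalIdeal_natCast_iff hM] at h2
      omega

end Cfsg.Agent.H945.Wk
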